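import Mathlib.NumberTheory.Bernoulli
import Mathlib.NumberTheory.ZetaValues
import Mathlib.RingTheory.PowerSeries.Inverse
import Mathlib.Tactic

/-!
The Todd class integrand.
-/

namespace Groth.Agent.Todd.Basic

open PowerSeries Finset

/-- The part of the integrand which does not depend on `p`. -/
noncomputable def Q (d u : ℚ) (m : ℕ) : PowerSeries ℚ :=
  (rescale (-d) (bernoulli'PowerSeries ℚ))⁻¹ * bernoulli'PowerSeries ℚ ^ m * rescale u (exp ℚ)

theorem bernoulli_mul_exp : bernoulliPowerSeries ℚ * exp ℚ = bernoulli'PowerSeries ℚ := by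
  refine mul_right_cancel₀ (b := exp ℚ - 1) ?_ ?_
  · intro h
    simpa [coeff_exp] using congrArg (coeff 1) h
  · rw [mul_right_comm, bernoulliPowerSeries_mul_exp_sub_one, bernoulli'PowerSeries_mul_exp_sub_one]

theorem rescale_neg_bernoulli (c : ℚ) :
    rescale (-c) (bernoulli'PowerSeries ℚ) = rescale c (bernoulliPowerSeries ℚ) := by
  ext n
  simp only [coeff_rescale, bernoulli'PowerSeries, bernoulliPowerSeries, coeff_mk,
    Algebra.algebraMap_self, RingHom.id_apply, bernoulli]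
  rw [neg_pow]
  ring

theorem integrand_eq (d c u : ℚ) (m : ℕ) :
    (rescale (-d) (bernoulli'PowerSeries ℚ))⁻¹ * rescale (-c) (bernoulli'PowerSeries ℚ) *
        bernoulli'PowerSeries ℚ ^ m * rescale (c + u) (exp ℚ) =
      rescale c (bernoulli'PowerSeries ℚ) * Q d u m := by
  have e : rescale c (bernoulli'PowerSeries ℚ) =
      rescale c (bernoulliPowerSeries ℚ) * rescale c (exp ℚ) := by
    rw [← map_mul, bernoulli_mul_exp]
  rw [Q, rescale_neg_bernoulli c, ← exp_mul_exp_eq_exp_add, e]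
  ring

theorem coeff_integrand (d c u : ℚ) (m n : ℕ) :
    coeff n (rescale c (bernoulli'PowerSeries ℚ) * Q d u m) =
      ∑ j ∈ range (n + 1), c ^ j * (bernoulli' j / (Nat.factorial j : ℚ)) * coeff (n - j) (Q d u m) := by
  rw [coeff_mul, Finset.Nat.sum_antidiagonal_eq_sum_range_succ_mk]
  simp [coeff_rescale, bernoulli'PowerSeries]

theorem coeff_mul_zero' (f g : PowerSeries ℚ) : coeff 0 (f * g) = coeff 0 f * coeff 0 g := by
  simp [coeff_mul]

theorem coeff_mul_one' (f g : PowerSeries ℚ) :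
    coeff 1 (f * g) = coeff 0 f * coeff 1 g + coeff 1 f * coeff 0 g := by
  simp [coeff_mul, Finset.Nat.sum_antidiagonal_eq_sum_range_succ_mk, Finset.sum_range_succ]

theorem coeff_mul_two' (f g : PowerSeries ℚ) :
    coeff 2 (f * g) = coeff 0 f * coeff 2 g + coeff 1 f * coeff 1 g + coeff 2 f * coeff 0 g := by
  simp [coeff_mul, Finset.Nat.sum_antidiagonal_eq_sum_range_succ_mk, Finset.sum_range_succ]

theorem coeff_mul_three' (f g : PowerSeries ℚ) :
    coeff 3 (f * g) = coeff 0 f * coeff 3 g + coeff 1 f * coeff 2 g + coeff 2 f * coeff 1 g +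
      coeff 3 f * coeff 0 g := by
  simp [coeff_mul, Finset.Nat.sum_antidiagonal_eq_sum_range_succ_mk, Finset.sum_range_succ]

theorem b_coeffs : coeff 0 (bernoulli'PowerSeries ℚ) = 1 ∧
    coeff 1 (bernoulli'PowerSeries ℚ) = 1 / 2 ∧ coeff 2 (bernoulli'PowerSeries ℚ) = 1 / 12 ∧
    coeff 3 (bernoulli'PowerSeries ℚ) = 0 := by
  simp [bernoulli'PowerSeries, Nat.factorial]
  norm_num

theorem inv_coeffs (d : ℚ) :
    let I := (rescale (-d) (bernoulli'PowerSeries ℚ))⁻¹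
    coeff 0 I = 1 ∧ coeff 1 I = d / 2 ∧ coeff 2 I = d ^ 2 / 6 ∧ coeff 3 I = d ^ 3 / 24 := by
  intro I
  obtain ⟨b0, b1, b2, b3⟩ := b_coeffs
  set F := rescale (-d) (bernoulli'PowerSeries ℚ) with hF
  have hne : constantCoeff F ≠ 0 := by
    rw [← coeff_zero_eq_constantCoeff_apply, hF, coeff_rescale, b0]
    norm_num
  have hI : F * I = 1 := PowerSeries.mul_inv_cancel F hne
  have h0 := congrArg (coeff 0) hI
  have h1 := congrArg (coeff 1) hI
  have h2 := congrArg (coeff 2) hI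
  have h3 := congrArg (coeff 3) hI
  rw [coeff_mul_zero'] at h0
  rw [coeff_mul_one'] at h1
  rw [coeff_mul_two'] at h2
  rw [coeff_mul_three'] at h3
  simp [hF, coeff_rescale, b0, b1, b2, b3, -coeff_zero_eq_constantCoeff] at h0 h1 h2 h3
  simp only [h0] at h1 h2 h3
  have e1 : coeff 1 I = d / 2 := by linear_combination h1
  simp only [e1] at h2 h3
  have e2 : coeff 2 I = d ^ 2 / 6 := by linear_combination h2
  rw [e2] at h3
  exact ⟨h0, e1, e2, by linear_combination h3⟩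

theorem pow_coeffs : ∀ m : ℕ, coeff 0 (bernoulli'PowerSeries ℚ ^ m) = 1 ∧
    coeff 1 (bernoulli'PowerSeries ℚ ^ m) = (m : ℚ) / 2
  | 0 => by simp
  | m + 1 => by
    obtain ⟨b0, b1, -, -⟩ := b_coeffs
    obtain ⟨h0, h1⟩ := pow_coeffs m
    rw [pow_succ, coeff_mul_zero', coeff_mul_one', h0, h1, b0, b1]
    refine ⟨by ring, by push_cast; ring⟩

theorem Q_coeffs (d u : ℚ) (m : ℕ) :
    coeff 0 (Q d u m) = 1 ∧ coeff 1 (Q d u m) = d / 2 + (m : ℚ) / 2 + u := by
  obtain ⟨i0, i1, -, -⟩ := inv_coeffs d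
  obtain ⟨p0, p1⟩ := pow_coeffs m
  rw [Q, coeff_mul_zero', coeff_mul_one', coeff_mul_zero', coeff_mul_one', i0, i1, p0, p1]
  simp [coeff_rescale, coeff_exp, -coeff_zero_eq_constantCoeff]
  ring

theorem bernoulli'_sign {k : ℕ} (hk : k ≠ 0) : 0 < (-1 : ℚ) ^ (k + 1) * bernoulli' (2 * k) := by
  rw [← bernoulli_eq_bernoulli'_of_ne_one (by omega : 2 * k ≠ 1)]
  have h := hasSum_zeta_nat hk
  have hpos : (0 : ℝ) < (-1 : ℝ) ^ (k + 1) * (2 : ℝ) ^ (2 * k - 1) * Real.pi ^ (2 * k) *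
      (bernoulli (2 * k) : ℝ) / ((2 * k).factorial : ℝ) :=
    lt_of_lt_of_le one_pos
      (le_of_eq_of_le (by simp) (le_hasSum h 1 fun j _ => by positivity))
  have h2 : (0 : ℝ) < (2 : ℝ) ^ (2 * k - 1) * Real.pi ^ (2 * k) / ((2 * k).factorial : ℝ) := by
    positivity
  have h3 : (0 : ℝ) < (-1 : ℝ) ^ (k + 1) * (bernoulli (2 * k) : ℝ) := by
    rw [show (-1 : ℝ) ^ (k + 1) * (2 : ℝ) ^ (2 * k - 1) * Real.pi ^ (2 * k) *
      (bernoulli (2 * k) : ℝ) / ((2 * k).factorial : ℝ) =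
      ((-1 : ℝ) ^ (k + 1) * (bernoulli (2 * k) : ℝ)) *
      ((2 : ℝ) ^ (2 * k - 1) * Real.pi ^ (2 * k) / ((2 * k).factorial : ℝ)) by ring] at hpos
    exact pos_of_mul_pos_left hpos h2.le
  exact_mod_cast h3

theorem bernoulli'_neg {n : ℕ} (h4 : n % 4 = 0) (hn : n ≠ 0) : bernoulli' n < 0 := by
  have h := bernoulli'_sign (k := n / 2) (by omega)
  rw [Odd.neg_one_pow ⟨n / 4, by omega⟩, show 2 * (n / 2) = n by omega] at h
  linarith

theorem bernoulli'_pos {n : ℕ} (h4 : n % 4 = 2) : 0 < bernoulli' n := by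
  have h := bernoulli'_sign (k := n / 2) (by omega)
  rw [Even.neg_one_pow ⟨(n / 2 + 1) / 2, by omega⟩, show 2 * (n / 2) = n by omega] at h
  linarith

theorem eventually_neg (P : Polynomial ℚ) (N : ℕ) (a : ℚ) (ha : a < 0) (hP : P.natDegree < N) :
    ∃ p₀ : ℕ, ∀ p : ℕ, p₀ ≤ p → a * (p : ℚ) ^ N + P.eval (p : ℚ) < 0 := by
  set S := ∑ i ∈ range (P.natDegree + 1), |P.coeff i| with hS
  obtain ⟨p₀, hp₀⟩ := exists_nat_gt (S / -a)
  refine ⟨p₀ + 1, fun p hp => ?_⟩
  have hp1 : (1 : ℚ) ≤ p := by exact_mod_cast (show 1 ≤ p by omega)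
  have hbound : P.eval (p : ℚ) ≤ S * (p : ℚ) ^ (N - 1) := by
    rw [Polynomial.eval_eq_sum_range, hS, sum_mul]
    refine sum_le_sum fun i hi => ?_
    rw [Finset.mem_range] at hi
    exact mul_le_mul (le_abs_self _) (pow_le_pow_right₀ hp1 (by omega)) (by positivity) (abs_nonneg _)
  have hlt : S / -a < p := hp₀.trans_le (by exact_mod_cast (show p₀ ≤ p by omega))
  rw [div_lt_iff₀ (by linarith)] at hlt
  have hpow : (0 : ℚ) < (p : ℚ) ^ (N - 1) := by positivity
  have e : (p : ℚ) ^ N = p * (p : ℚ) ^ (N - 1) := by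
    rw [← pow_succ', show N - 1 + 1 = N by omega]
  rw [e]
  nlinarith [mul_lt_mul_of_pos_right hlt hpow]

end Groth.Agent.Todd.Basic
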