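import Mathlib.Data.Nat.Choose.Vandermonde
import Mathlib.LinearAlgebra.Matrix.PosDef
import Mathlib.Data.Nat.Dist
import Mathlib.Tactic

/-!
Signed binomial Toeplitz matrices as Gram matrices.
-/

namespace Groth.Agent.Todd.Toeplitz

open Matrix Finset

variable (R : Type*) [CommRing R]

/-- The banded factor. -/
def band (n m : ℕ) : Matrix (Fin (m + n)) (Fin m) R :=
  Matrix.of fun l i => if (i : ℕ) ≤ l then (-1 : R) ^ ((l : ℕ) - i) * (n.choose ((l : ℕ) - i) : R) else 0

theorem vander {n d : ℕ} {M : ℕ} (hM : n ≤ M) :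
    ∑ t ∈ range (M + 1), n.choose (t + d) * n.choose t = (2 * n).choose (n + d) := by
  rcases le_or_gt d n with hd | hd
  · rw [show (2 * n).choose (n + d) = (n + n).choose (n - d) by
      rw [two_mul]; exact Nat.choose_symm_of_eq_add (by omega), Nat.add_choose_eq,
      Finset.Nat.sum_antidiagonal_eq_sum_range_succ_mk]
    rw [← sum_subset (s₁ := range ((n - d).succ)) (by intro x hx; simp at hx ⊢; omega) (fun x _ hx => by
      simp at hx
      rw [Nat.choose_eq_zero_of_lt (by omega : n < x + d), zero_mul])]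
    refine sum_congr rfl fun t ht => ?_
    simp at ht
    rw [mul_comm]
    congr 1
    rw [← Nat.choose_symm (by omega : t + d ≤ n)]
    congr 1
    omega
  · rw [Nat.choose_eq_zero_of_lt (by omega : 2 * n < n + d)]
    exact sum_eq_zero fun t _ => by rw [Nat.choose_eq_zero_of_lt (by omega : n < t + d), zero_mul]

theorem gram_apply_le {n m : ℕ} {i j : Fin m} (hij : (i : ℕ) ≤ j) :
    ((band R n m)ᵀ * band R n m) i j =
      (-1 : R) ^ ((i : ℕ) + j) * ((2 * n).choose (n + ((j : ℕ) - i)) : R) := by
  have hj := j.2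
  set f : ℕ → R := fun l => (if (i : ℕ) ≤ l then (-1 : R) ^ (l - (i : ℕ)) * (n.choose (l - i) : R) else 0) *
    (if (j : ℕ) ≤ l then (-1 : R) ^ (l - (j : ℕ)) * (n.choose (l - j) : R) else 0) with hf
  have e0 : ((band R n m)ᵀ * band R n m) i j = ∑ l ∈ range (m + n), f l := by
    rw [← Fin.sum_univ_eq_sum_range, mul_apply]
    simp [band, hf]
  rw [e0, ← sum_range_add_sum_Ico f (show (j : ℕ) ≤ m + n by omega)]
  have hz : ∑ l ∈ range (j : ℕ), f l = 0 := sum_eq_zero fun l hl => by
    simp at hl
    simp [hf, show ¬ (j : ℕ) ≤ l by omega]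
  rw [hz, zero_add, sum_Ico_eq_sum_range,
    ← vander (n := n) (d := (j : ℕ) - i) (M := m + n - j - 1) (by omega), Nat.cast_sum, mul_sum,
    show m + n - j - 1 + 1 = m + n - j by omega]
  refine sum_congr rfl fun t _ => ?_
  simp only [hf]
  rw [if_pos (by omega), if_pos (by omega), show (j : ℕ) + t - i = t + (j - i) by omega,
    show (j : ℕ) + t - j = t by omega]
  have hs : (-1 : R) ^ (t + ((j : ℕ) - i)) * (-1 : R) ^ t = (-1 : R) ^ ((i : ℕ) + j) := by
    rw [← pow_add]
    exact neg_one_pow_congr (by simp only [Nat.even_iff]; omega)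
  push_cast
  linear_combination ((n.choose (t + ((j : ℕ) - i)) : R) * (n.choose t : R)) * hs

theorem gram_apply (n m : ℕ) (i j : Fin m) :
    ((band R n m)ᵀ * band R n m) i j =
      (-1 : R) ^ ((i : ℕ) + j) * ((2 * n).choose (n + Nat.dist i j) : R) := by
  rcases le_total (i : ℕ) j with h | h
  · rw [gram_apply_le R h, Nat.dist_eq_sub_of_le h]
  · have : ((band R n m)ᵀ * band R n m) i j = ((band R n m)ᵀ * band R n m) j i := by
      rw [mul_apply, mul_apply]
      exact sum_congr rfl fun l _ => mul_comm _ _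
    rw [this, gram_apply_le R h, Nat.dist_eq_sub_of_le_right h, add_comm (j : ℕ)]

theorem band_injective (n m : ℕ) : Function.Injective (band R n m).mulVec := by
  intro x y hxy
  have hz : (band R n m).mulVec (x - y) = 0 := by rw [mulVec_sub, hxy, sub_self]
  rw [← sub_eq_zero]
  funext i
  obtain ⟨i, hi⟩ := i
  induction i using Nat.strong_induction_on with
  | _ i ih =>
    have h := congrFun hz ⟨i, by omega⟩
    rw [mulVec, dotProduct, Finset.sum_eq_single ⟨i, hi⟩] at h
    · simpa [band] using h
    · intro l _ hl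
      rcases lt_or_ge (l : ℕ) i with h' | h'
      · have := ih l h' l.2
        simp only [Fin.eta] at this
        simp [this]
      · have : i < (l : ℕ) := lt_of_le_of_ne h' (fun e => hl (Fin.ext e.symm))
        simp [band, show ¬ (l : ℕ) ≤ i by omega]
    · simp

end Groth.Agent.Todd.Toeplitz
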